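import Groth.Agent.H13CI.FlatRegular
import Groth.Agent.H06EGA11.KernelFP
import Groth.Agent.H02CA.KoszSpread.Basic
import Groth.Agent.H29Slice.SeqOps
import Mathlib

/-!
# Flatness at the points of an `H₁`-regular sequence with flat quotient
-/

set_option autoImplicit false
set_option linter.style.haveILetI false
set_option linter.unusedSectionVars false
set_option linter.unusedSimpArgs false

universe u

open scoped TensorProduct

namespace Groth.Agent.H11RelH1

variable {A : Type u} [CommRing A]

theorem span_range_castSucc {B : Type u} [CommRing B] {r : ℕ} (f : Fin (r + 1) → B) :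
    Ideal.span (Set.range f) =
      Ideal.span (Set.range fun i : Fin r => f i.castSucc) ⊔ Ideal.span {f (Fin.last r)} := by
  rw [← Ideal.span_union]
  congr 1
  ext b
  simp only [Set.mem_range, Set.mem_union, Set.mem_singleton_iff]
  constructor
  · rintro ⟨i, rfl⟩
    induction i using Fin.lastCases with
    | last => exact Or.inr rfl
    | cast i => exact Or.inl ⟨i, rfl⟩
  · rintro (⟨i, rfl⟩ | rfl)
    · exact ⟨_, rfl⟩
    · exact ⟨_, rfl⟩

/-- Flatness of a quotient passes to localisations. -/
theorem flat_quotient_localization {B L : Type u} [CommRing B] [CommRing L] [Algebra A B] [Algebra A L]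
    [Algebra B L] [IsScalarTower A B L] (M : Submonoid B) [IsLocalization M L] (J : Ideal B)
    [Module.Flat A (B ⧸ J)] : Module.Flat A (L ⧸ J.map (algebraMap B L)) := by
  let C := B ⧸ J
  let Q := L ⧸ J.map (algebraMap B L)
  haveI : IsScalarTower A C Q := IsScalarTower.of_algebraMap_eq (R := A) (S := C) (A := Q) fun a =>
    congrArg (Ideal.Quotient.mk _) (IsScalarTower.algebraMap_apply A B L a)
  haveI : IsLocalization (Algebra.algebraMapSubmonoid C M) Q := inferInstance
  haveI : Module.Flat C Q := IsLocalization.flat Q (Algebra.algebraMapSubmonoid C M)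
  exact Module.Flat.trans A C Q

/-- A flat algebra of finite presentation is flat on a basic open around a point where it is flat. -/
theorem exists_away_flat {C : Type u} [CommRing C] [Algebra A C] [Algebra.FinitePresentation A C]
    (q : Ideal C) [q.IsPrime] [Module.Flat A (Localization.AtPrime q)] :
    ∃ t ∉ q, ∀ (L : Type u) [CommRing L] [Algebra A L] [Algebra C L] [IsScalarTower A C L]
      [IsLocalization.Away t L], Module.Flat A L := by
  haveI := Module.finitePresentation_of_projective C C
  have h : Module.Flat A (LocalizedModule q.primeCompl C) :=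
    Module.Flat.of_linearEquiv ((IsLocalizedModule.linearEquiv q.primeCompl
      (LocalizedModule.mkLinearMap q.primeCompl C)
      (Algebra.linearMap C (Localization.AtPrime q))).restrictScalars A)
  obtain ⟨t, ht, H⟩ := H02CA.KoszSpread.exists_flat_away (S := C) q A C h
  refine ⟨t, ht, fun L _ _ _ _ _ => ?_⟩
  haveI := H t dvd_rfl
  exact Module.Flat.of_linearEquiv ((IsLocalizedModule.linearEquiv (Submonoid.powers t)
    (Algebra.linearMap C L) (LocalizedModule.mkLinearMap (Submonoid.powers t) C)).restrictScalars A)

variable {B : Type u} [CommRing B]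

/-- Trivial relations. -/
abbrev trivRel {c : ℕ} (f : Fin c → B) : Submodule B (Fin c → B) :=
  Submodule.span B {v : Fin c → B | ∃ i j : Fin c, v = Pi.single i (f j) - Pi.single j (f i)}

/-- A relation among all but the last element, seen modulo the trivial relations. -/
theorem init_relation {r : ℕ} (f : Fin (r + 1) → B) (a : Fin (r + 1) → B) (ha : a ∈ trivRel f) :
    ∃ (t w : Fin r → B), t ∈ trivRel (fun i => f i.castSucc) ∧
      (∀ i, a i.castSucc = t i + f (Fin.last r) * w i) ∧
      a (Fin.last r) = - ∑ i, w i * f i.castSucc := by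
  induction ha using Submodule.span_induction with
  | zero => exact ⟨0, 0, zero_mem _, fun i => by simp, by simp⟩
  | add a b _ _ ha hb =>
    obtain ⟨t, w, h1, h2, h3⟩ := ha
    obtain ⟨t', w', h1', h2', h3'⟩ := hb
    exact ⟨t + t', w + w', add_mem h1 h1', fun i => by simp only [Pi.add_apply, h2, h2']; ring,
      by simp only [Pi.add_apply, h3, h3', add_mul, Finset.sum_add_distrib]; ring⟩
  | smul c a _ ha =>
    obtain ⟨t, w, h1, h2, h3⟩ := ha
    exact ⟨c • t, c • w, Submodule.smul_mem _ c h1, fun i => by simp only [Pi.smul_apply, smul_eq_mul, h2]; ring,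
      by simp only [Pi.smul_apply, smul_eq_mul, h3, mul_neg, Finset.mul_sum, mul_assoc]⟩
  | mem a ha =>
    obtain ⟨i, j, rfl⟩ := ha
    induction i using Fin.lastCases with
    | last =>
      induction j using Fin.lastCases with
      | last => exact ⟨0, 0, zero_mem _, fun i => by simp, by simp⟩
      | cast j =>
        refine ⟨0, -Pi.single j 1, zero_mem _, fun i => ?_, ?_⟩
        · by_cases h : i = j
          · subst h; simp [(Fin.castSucc_lt_last i).ne, (Fin.castSucc_lt_last i).ne']
          · simp [h, (Fin.castSucc_lt_last i).ne, (Fin.castSucc_lt_last i).ne', Fin.castSucc_inj]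
        · simp [(Fin.castSucc_lt_last j).ne', Pi.single_apply, Finset.sum_ite_eq', ite_mul]
    | cast i =>
      induction j using Fin.lastCases with
      | last =>
        refine ⟨0, Pi.single i 1, zero_mem _, fun k => ?_, ?_⟩
        · by_cases h : k = i
          · subst h; simp [(Fin.castSucc_lt_last k).ne, (Fin.castSucc_lt_last k).ne']
          · simp [h, (Fin.castSucc_lt_last k).ne, (Fin.castSucc_lt_last k).ne', Fin.castSucc_inj]
        · simp [(Fin.castSucc_lt_last i).ne', Pi.single_apply, Finset.sum_ite_eq', ite_mul]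
      | cast j =>
        refine ⟨Pi.single i (f j.castSucc) - Pi.single j (f i.castSucc), 0, Submodule.subset_span ⟨i, j, rfl⟩,
          fun k => ?_, ?_⟩
        · simp [Pi.single_apply, Fin.castSucc_inj]
        · simp [(Fin.castSucc_lt_last i).ne', (Fin.castSucc_lt_last j).ne']

/-- Relations extended by zero. -/
theorem snoc_relation {r : ℕ} (f : Fin (r + 1) → B) (a : Fin r → B) (x : B) :
    ∑ i, (Fin.snoc a x : Fin (r + 1) → B) i * f i = (∑ i, a i * f i.castSucc) + x * f (Fin.last r) := by
  rw [Fin.sum_univ_castSucc]
  simp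

/-- The last element is a nonzerodivisor modulo the others. -/
theorem mem_of_last_mul_mem {r : ℕ} (f : Fin (r + 1) → B) (hf : CAlgX.IsH1Regular f) (b : B)
    (hb : f (Fin.last r) * b ∈ Ideal.span (Set.range fun i : Fin r => f i.castSucc)) :
    b ∈ Ideal.span (Set.range fun i : Fin r => f i.castSucc) := by
  obtain ⟨c, hc⟩ := Ideal.mem_span_range_iff_exists_fun.1 hb
  obtain ⟨t, w, -, -, h3⟩ := init_relation f _ (hf (Fin.snoc (fun i => - c i) b) (by
    rw [snoc_relation]
    simp only [neg_mul, Finset.sum_neg_distrib, hc]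
    ring))
  rw [Fin.snoc_last] at h3
  rw [h3]
  exact neg_mem (Ideal.sum_mem _ fun i _ => Ideal.mul_mem_left _ _ (Ideal.subset_span ⟨i, rfl⟩))

/-- Dropping the last element of an `H₁`-regular sequence, near a point where it vanishes, when the
smaller quotient is flat. -/
theorem exists_init_h1 [Algebra A B] [Algebra.FinitePresentation A B] {r : ℕ} (f : Fin (r + 1) → B)
    (hf : CAlgX.IsH1Regular f)
    [Module.Flat A (B ⧸ Ideal.span (Set.range fun i : Fin r => f i.castSucc))]
    (q : Ideal B) [q.IsPrime] (hq : f (Fin.last r) ∈ q) :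
    ∃ s ∉ q, ∀ a : Fin r → B, ∑ i, a i * f i.castSucc = 0 → s • a ∈ trivRel (fun i => f i.castSucc) := by
  classical
  let f' : Fin r → B := fun i => f i.castSucc
  let J := Ideal.span (Set.range f')
  haveI := Module.finitePresentation_of_projective B B
  haveI : Module.FinitePresentation B (B ⧸ J) :=
    Module.finitePresentation_of_surjective J.mkQ J.mkQ_surjective (by
      rw [Submodule.ker_mkQ]; exact Submodule.fg_span (Set.finite_range f'))
  have hJ : Module.FinitePresentation B J := by
    have := H06EGA11.finitePresentation_ker (A := A) (B := B) (G := B) (M := B ⧸ J) J.mkQ J.mkQ_surjective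
    rwa [Submodule.ker_mkQ] at this
  let π : (Fin r → B) →ₗ[B] J := (Fintype.linearCombination B f').codRestrict J (fun a => by
    rw [Fintype.linearCombination_apply]
    exact Ideal.sum_mem _ fun i _ => J.mul_mem_left _ (Ideal.subset_span ⟨i, rfl⟩))
  have hπ : Function.Surjective π := by
    rintro ⟨b, hb⟩
    obtain ⟨c, hc⟩ := Ideal.mem_span_range_iff_exists_fun.1 hb
    exact ⟨c, Subtype.ext (by simpa [π, Fintype.linearCombination_apply] using hc)⟩
  have hker : ∀ a, a ∈ LinearMap.ker π ↔ ∑ i, a i * f' i = 0 := fun a => by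
    simp [π, Fintype.linearCombination_apply, Subtype.ext_iff]
  let N := (LinearMap.ker π).map (trivRel f').mkQ
  have hN : N.FG := (Module.FinitePresentation.fg_ker π hπ).map _
  have hNle : N ≤ Ideal.span {f (Fin.last r)} • N := by
    rintro _ ⟨a, ha, rfl⟩
    obtain ⟨t, w, ht, h2, h3⟩ := init_relation f _ (hf (Fin.snoc a 0) (by
      rw [snoc_relation, (hker a).1 ha, zero_mul, add_zero]))
    have hw : w ∈ LinearMap.ker π := (hker w).2 (by
      rw [Fin.snoc_last] at h3
      rw [← neg_eq_zero, ← h3])
    have e : a = t + f (Fin.last r) • w := funext fun i => by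
      simpa using h2 i
    rw [e, map_add, show (trivRel f').mkQ t = 0 from (Submodule.Quotient.mk_eq_zero _).2 ht, zero_add, map_smul]
    exact Submodule.smul_mem_smul (Ideal.mem_span_singleton_self _) ⟨w, hw, rfl⟩
  obtain ⟨s, hs, hsN⟩ := Submodule.exists_sub_one_mem_and_smul_eq_zero_of_fg_of_le_smul _ N hN hNle
  refine ⟨s, fun hsq => ‹q.IsPrime›.ne_top ((Ideal.eq_top_iff_one q).2 ?_), fun a ha => ?_⟩
  · have := q.sub_mem hsq ((Ideal.span_singleton_le_iff_mem q).2 hq hs)
    simpa using this
  · have := hsN _ ⟨a, (hker a).2 ha, rfl⟩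
    rwa [← map_smul, Submodule.mkQ_apply, Submodule.Quotient.mk_eq_zero] at this

/-- `H₁`-regularity in a localisation where the relations have become trivial. -/
theorem isH1Regular_of_smul {L : Type u} [CommRing L] [Algebra B L] (M : Submonoid B) [IsLocalization M L]
    {c : ℕ} (f : Fin c → B) (s : B) (hs : IsUnit (algebraMap B L s))
    (H : ∀ a : Fin c → B, ∑ i, a i * f i = 0 → s • a ∈ trivRel f) :
    CAlgX.IsH1Regular fun i => algebraMap B L (f i) := by
  intro a ha
  obtain ⟨m, hm⟩ := IsLocalization.exist_integer_multiples M Finset.univ a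
  choose a₀ ha₀ using fun i => hm i (Finset.mem_univ i)
  have h1 : algebraMap B L (∑ i, a₀ i * f i) = 0 := by
    rw [map_sum]
    have : ∀ i, algebraMap B L (a₀ i * f i) = algebraMap B L m * (a i * algebraMap B L (f i)) := fun i => by
      rw [map_mul, ha₀, Algebra.smul_def, mul_assoc]
    rw [Finset.sum_congr rfl fun i _ => this i, ← Finset.mul_sum, ha, mul_zero]
  obtain ⟨t, ht⟩ := (IsLocalization.map_eq_zero_iff M L _).mp h1
  have h2 := H29Slice.map_mem_trivRel (L := L) f (H (fun i => (t : B) * a₀ i)
    (by rw [← ht, Finset.mul_sum]; simp only [mul_assoc]))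
  obtain ⟨e, he⟩ := (hs.mul (IsLocalization.map_units L t)).mul (IsLocalization.map_units L m)
  have h3 : a = (↑e⁻¹ : L) • fun i => algebraMap B L ((s • fun j => (t : B) * a₀ j) i) := funext fun i => by
    simp only [Pi.smul_apply, smul_eq_mul, map_mul, ha₀, Algebra.smul_def, Algebra.algebraMap_self, RingHom.id_apply]
    rw [← mul_assoc (algebraMap B L s), ← mul_assoc (algebraMap B L s * algebraMap B L t), ← he, ← mul_assoc,
      Units.inv_mul, one_mul]
  rw [h3]
  exact Submodule.smul_mem _ _ h2

/-- Flatness at a point of the base of a localisation. -/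
theorem flat_atPrime_of_localization [Algebra A B] {L : Type u} [CommRing L] [Algebra A L] [Algebra B L]
    [IsScalarTower A B L] (M : Submonoid B) [IsLocalization M L] (q : Ideal B) [q.IsPrime]
    (hM : Disjoint (M : Set B) (q : Set B))
    (h : ∀ q' : Ideal L, ∀ [q'.IsPrime], q'.comap (algebraMap B L) = q → Module.Flat A (Localization.AtPrime q')) :
    Module.Flat A (Localization.AtPrime q) := by
  let q' := q.map (algebraMap B L)
  haveI : q'.IsPrime := IsLocalization.isPrime_of_isPrime_disjoint M L q inferInstance hM
  have hq' : q'.comap (algebraMap B L) = q := IsLocalization.under_map_of_isPrime_disjoint M L inferInstance hM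
  haveI := h q' hq'
  have key : ∀ (p : Ideal B) [p.IsPrime], q'.comap (algebraMap B L) = p →
      IsLocalization.AtPrime (Localization.AtPrime q') p := by
    intro p _ he
    subst he
    exact IsLocalization.isLocalization_isLocalization_atPrime_isLocalization (M := M) (Localization.AtPrime q') q'
  haveI := key q hq'
  exact Module.Flat.of_linearEquiv ((IsLocalization.algEquiv q.primeCompl (Localization.AtPrime q)
    (Localization.AtPrime q')).restrictScalars A).toLinearEquiv

/-- A finitely presented algebra is flat at the points of an `H₁`-regular sequence with flat quotient. -/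
theorem flat_localization_of_isH1Regular : ∀ {r : ℕ} (B : Type u) [CommRing B] [Algebra A B]
    [Algebra.FinitePresentation A B] (f : Fin r → B), CAlgX.IsH1Regular f →
    Module.Flat A (B ⧸ Ideal.span (Set.range f)) → ∀ (q : Ideal B) [q.IsPrime], (∀ i, f i ∈ q) →
    Module.Flat A (Localization.AtPrime q) := by
  intro r
  induction r with
  | zero =>
    intro B _ _ _ f _ hflat q _ _
    rw [Set.range_eq_empty, Ideal.span_empty] at hflat
    haveI : Module.Flat A B := Module.Flat.of_linearEquiv (AlgEquiv.quotientBot A B).symm.toLinearEquiv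
    exact Module.Flat.trans A B _
  | succ r ih =>
    intro B _ _ _ f hf hflat q _ hq
    classical
    let x := f (Fin.last r)
    let J := Ideal.span (Set.range fun i : Fin r => f i.castSucc)
    let C := B ⧸ J
    haveI : Algebra.FinitePresentation A C :=
      Algebra.FinitePresentation.quotient (Submodule.fg_span (Set.finite_range _))
    have hJq : J ≤ q := Ideal.span_le.2 (by rintro _ ⟨i, rfl⟩; exact hq _)
    let qC : PrimeSpectrum C := ⟨q.map (Ideal.Quotient.mk J), Ideal.map_isPrime_of_surjective
      Ideal.Quotient.mk_surjective (by rwa [Ideal.mk_ker])⟩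
    haveI : qC.asIdeal.IsPrime := qC.isPrime
    have hqC : qC.asIdeal.comap (Ideal.Quotient.mk J) = q := by
      rw [Ideal.comap_map_of_surjective' _ Ideal.Quotient.mk_surjective, Ideal.mk_ker, sup_eq_left.2 hJq]
    -- the smaller quotient is flat at `q`
    let x' : C := Ideal.Quotient.mk J x
    have hx'q : x' ∈ qC.asIdeal := Ideal.mem_map_of_mem _ (hq _)
    let q₂ : PrimeSpectrum (C ⧸ Ideal.span {x'}) := ⟨qC.asIdeal.map (Ideal.Quotient.mk _),
      Ideal.map_isPrime_of_surjective Ideal.Quotient.mk_surjective (by
        rw [Ideal.mk_ker, Ideal.span_singleton_le_iff_mem]; exact hx'q)⟩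
    haveI : q₂.asIdeal.IsPrime := q₂.isPrime
    have hq₂ : q₂.asIdeal.comap (Ideal.Quotient.mk (Ideal.span {x'})) = qC.asIdeal := by
      rw [Ideal.comap_map_of_surjective' _ Ideal.Quotient.mk_surjective, Ideal.mk_ker,
        sup_eq_left.2 ((Ideal.span_singleton_le_iff_mem _).2 hx'q)]
    haveI : Module.Flat A (C ⧸ Ideal.span {x'}) := by
      rw [show Ideal.span {x'} = (Ideal.span {x}).map (Ideal.Quotient.mk J) by
        rw [Ideal.map_span, Set.image_singleton]]
      rw [span_range_castSucc f] at hflat
      exact Module.Flat.of_linearEquiv (DoubleQuot.quotQuotEquivQuotSupₐ A J (Ideal.span {x})).toLinearEquiv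
    haveI hC : Module.Flat A (Localization.AtPrime qC.asIdeal) :=
      H13CI.FlatRegular.flat_localization_of_regular x' qC hx'q (fun c hc => by
        obtain ⟨b, rfl⟩ := Ideal.Quotient.mk_surjective c
        rw [← map_mul, Ideal.Quotient.eq_zero_iff_mem] at hc
        exact Ideal.Quotient.eq_zero_iff_mem.2 (mem_of_last_mul_mem f hf b hc))
        q₂ hq₂ (Module.Flat.trans A (C ⧸ Ideal.span {x'}) _)
    obtain ⟨t, ht, hT⟩ := exists_away_flat (A := A) qC.asIdeal
    obtain ⟨g, rfl⟩ := Ideal.Quotient.mk_surjective t
    have hg : g ∉ q := fun h => ht (Ideal.mem_map_of_mem _ h)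
    -- shrink to make the smaller quotient flat
    let B₁ := Localization.Away g
    haveI : Algebra.FinitePresentation A B₁ :=
      Algebra.FinitePresentation.trans A B B₁
    haveI : IsLocalization.Away (Ideal.Quotient.mk J g) (B₁ ⧸ J.map (algebraMap B B₁)) := by
      have : Algebra.algebraMapSubmonoid C (Submonoid.powers g) = Submonoid.powers (Ideal.Quotient.mk J g) :=
        Submonoid.map_powers _ g
      show IsLocalization (Submonoid.powers _) _
      rw [← this]
      infer_instance
    haveI : IsScalarTower A C (B₁ ⧸ J.map (algebraMap B B₁)) :=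
      IsScalarTower.of_algebraMap_eq (R := A) (S := C) fun a =>
        congrArg (Ideal.Quotient.mk _) (IsScalarTower.algebraMap_apply A B B₁ a)
    haveI hflat₁ := hT (B₁ ⧸ J.map (algebraMap B B₁))
    refine flat_atPrime_of_localization (L := B₁) (Submonoid.powers g) q ?_ fun q₁ _ hq₁ => ?_
    · exact (Ideal.disjoint_powers_iff_notMem_of_isPrime (I := q) g).2 hg
    let f₁ : Fin (r + 1) → B₁ := fun i => algebraMap B B₁ (f i)
    have hJ₁ : J.map (algebraMap B B₁) = Ideal.span (Set.range fun i : Fin r => f₁ i.castSucc) := by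
      rw [Ideal.map_span, ← Set.range_comp]
      rfl
    rw [hJ₁] at hflat₁
    have hf₁q : ∀ i, f₁ i ∈ q₁ := fun i => by
      show f i ∈ q₁.comap (algebraMap B B₁)
      rw [hq₁]; exact hq i
    obtain ⟨s, hs, hsR⟩ := exists_init_h1 (A := A) f₁ (H29Slice.isH1Regular_localization (Submonoid.powers g) hf)
      q₁ (hf₁q _)
    -- shrink to make the smaller sequence `H₁`-regular
    let B₂ := Localization.Away s
    haveI : Algebra.FinitePresentation A B₂ :=
      Algebra.FinitePresentation.trans A B₁ B₂
    have hs₂ : Ideal.span (Set.range fun i : Fin r => algebraMap B₁ B₂ (f₁ i.castSucc)) =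
        (Ideal.span (Set.range fun i : Fin r => f₁ i.castSucc)).map (algebraMap B₁ B₂) := by
      rw [Ideal.map_span, ← Set.range_comp]
      rfl
    refine flat_atPrime_of_localization (L := B₂) (Submonoid.powers s) q₁ ?_ fun q₂ _ hq₂' => ?_
    · exact (Ideal.disjoint_powers_iff_notMem_of_isPrime (I := q₁) s).2 hs
    refine ih B₂ (fun i => algebraMap B₁ B₂ (f₁ i.castSucc))
      (isH1Regular_of_smul (Submonoid.powers s) _ s
        (IsLocalization.Away.algebraMap_isUnit s) hsR)
      (by rw [hs₂]; exact flat_quotient_localization (Submonoid.powers s) _) q₂ fun i => ?_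
    show f₁ i.castSucc ∈ q₂.comap (algebraMap B₁ B₂)
    rw [hq₂']
    exact hf₁q _

end Groth.Agent.H11RelH1
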