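import Groth.Agent.H11RelH1.Algebra
import Groth.Agent.H29Slice.TransBC
import Groth.Agent.H29Slice.H1Quasi
import Mathlib

/-!
# Relative `H₁`-regular immersions
-/

set_option autoImplicit false
set_option linter.style.haveILetI false
set_option linter.unusedSectionVars false

universe u

open AlgebraicGeometry CategoryTheory CategoryTheory.Limits TopologicalSpace

namespace Groth.Agent.H11RelH1

variable {Z X S : Scheme.{u}}

/-- An affine chart flat over the base. -/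
theorem flat_ι_comp (f : X ⟶ S) (U : X.affineOpens) (V : S.affineOpens) (e : U.1 ≤ f ⁻¹ᵁ V.1)
    (h : (f.appLE V.1 U.1 e).hom.Flat) : Flat (U.1.ι ≫ f) := by
  haveI : Flat (Spec.map (f.appLE V.1 U.1 e)) := (HasRingHomProperty.Spec_iff (P := @Flat)).2 h
  have e' : U.1.ι ≫ f = U.2.isoSpec.hom ≫ Spec.map (f.appLE V.1 U.1 e) ≫ V.2.fromSpec := by
    rw [IsAffineOpen.SpecMap_appLE_fromSpec _ V.2 U.2, IsAffineOpen.fromSpec, Category.assoc, Iso.hom_inv_id_assoc]
  rw [e']
  infer_instance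

/-- Near a point of a relative `H₁`-regular immersion: an affine chart flat over the base on which the
equations form a transversally regular sequence. -/
theorem exists_flat_chart (f : X ⟶ S) [LocallyOfFinitePresentation f] (i : Z ⟶ X)
    (hi : RegImm.IsRelRegularImmersion RegImm.Kind.h1 f i) (z : Z) :
    (∃ W : X.Opens, i z ∈ W ∧ Flat (W.ι ≫ f)) ∧ RegImm.IsTransRegularImmersionAt f i z := by
  obtain ⟨⟨himm, hreg⟩, hflat⟩ := hi
  haveI := hflat
  obtain ⟨V, hV, hxV, -⟩ := exists_isAffineOpen_mem_and_subset (Opens.mem_top (f (i z)))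
  obtain ⟨U, hzU, e, hcl, rs, hrs, hker⟩ := H29Slice.exists_shrink (Or.inl rfl) i z (hreg z) (f ⁻¹ᵁ V) hxV
  letI := (f.appLE V U.1 e).hom.toAlgebra
  haveI : Algebra.FinitePresentation Γ(S, V) Γ(X, U.1) :=
    LocallyOfFinitePresentation.finitePresentation_appLE f hV U.2 e
  have hspan : Ideal.span (Set.range rs.get) = RingHom.ker (i.app U.1).hom := by
    rw [hker, Ideal.ofList, Set.range_list_get]
  have hfl : Module.Flat Γ(S, V) (Γ(X, U.1) ⧸ Ideal.span (Set.range rs.get)) :=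
    hspan ▸ H29Slice.flat_quotient_ker f i U.2 hcl hV e
  let q := U.2.primeIdealOf ⟨i z, hzU⟩
  have hq : ∀ j, rs.get j ∈ q.asIdeal := fun j => by
    refine (_root_.H29Blow.mem_primeIdealOf_iff U.2 ⟨i z, hzU⟩ _).mpr fun hu => ?_
    have h0 : i.app U.1 (rs.get j) = 0 := hspan.le (Ideal.subset_span ⟨j, rfl⟩)
    have h1 := hu.map (i.stalkMap z).hom
    erw [Scheme.Hom.germ_stalkMap_apply, h0, map_zero] at h1
    exact not_isUnit_zero h1
  haveI := flat_localization_of_isH1Regular (A := Γ(S, V)) Γ(X, U.1) rs.get hrs hfl q.asIdeal hq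
  obtain ⟨t, ht, hT⟩ := exists_away_flat (A := Γ(S, V)) q.asIdeal
  let B₁ := Localization.Away t
  haveI : Algebra.FinitePresentation Γ(S, V) B₁ :=
    Algebra.FinitePresentation.trans Γ(S, V) Γ(X, U.1) B₁
  haveI := hT B₁
  let q₁ : Ideal B₁ := q.asIdeal.map (algebraMap Γ(X, U.1) B₁)
  have hdisj : Disjoint (Submonoid.powers t : Set Γ(X, U.1)) (q.asIdeal : Set Γ(X, U.1)) :=
    (Ideal.disjoint_powers_iff_notMem_of_isPrime (I := q.asIdeal) t).2 ht
  haveI : q₁.IsPrime := IsLocalization.isPrime_of_isPrime_disjoint (Submonoid.powers t) B₁ q.asIdeal inferInstance hdisj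
  have hrs₁ := H29Slice.seq_localization (k := RegImm.Kind.h1) (Or.inl rfl) (L := B₁) (Submonoid.powers t) hrs
  have hspan₁ : Ideal.span (Set.range (rs.map (algebraMap Γ(X, U.1) B₁)).get) =
      (Ideal.span (Set.range rs.get)).map (algebraMap Γ(X, U.1) B₁) := by
    rw [Set.range_list_get, Set.range_list_get, ← Ideal.ofList, ← Ideal.ofList, Ideal.map_ofList]
  have hfl₁ : Module.Flat Γ(S, V) (B₁ ⧸ Ideal.span (Set.range (rs.map (algebraMap Γ(X, U.1) B₁)).get)) := by
    rw [hspan₁]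
    exact flat_quotient_localization (Submonoid.powers t) _
  have hq₁ : ∀ j, (rs.map (algebraMap Γ(X, U.1) B₁)).get j ∈ q₁ := fun j => by
    rw [List.get_eq_getElem, List.getElem_map]
    exact Ideal.mem_map_of_mem _ (hq ⟨j.1, by simpa using j.2⟩)
  obtain ⟨b₁, hb₁, hL⟩ := H29Slice.exists_transReg (A := Γ(S, V)) B₁ _ (H29Slice.isQuasiRegular_of_isH1Regular hrs₁)
    hfl₁ ⟨q₁, inferInstance⟩ hq₁
  obtain ⟨⟨b, c⟩, hbc⟩ := IsLocalization.surj (Submonoid.powers t) b₁
  have hu := IsLocalization.map_units (M := Submonoid.powers t) B₁ c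
  have hb : b * t ∉ q.asIdeal := fun h => by
    rcases q.isPrime.mem_or_mem h with h | h
    · have h2 : algebraMap Γ(X, U.1) B₁ b ∈ q₁ := Ideal.mem_map_of_mem _ h
      rw [← hbc] at h2
      rcases Ideal.IsPrime.mem_or_mem ‹q₁.IsPrime› h2 with h3 | h3
      · exact hb₁ h3
      · exact Ideal.IsPrime.ne_top ‹q₁.IsPrime› (Ideal.eq_top_of_isUnit_mem _ h3 hu)
    · exact ht h
  let W := X.basicOpen (b * t)
  have hzW : i z ∈ W := by
    have h0 : q ∈ U.2.fromSpec ⁻¹ᵁ X.basicOpen (b * t) := by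
      rw [U.2.fromSpec_preimage_basicOpen (b * t)]; exact hb
    have h1 : U.2.fromSpec q = i z := U.2.fromSpec_primeIdealOf ⟨i z, hzU⟩
    rw [← h1]; exact h0
  have hle : W ≤ U.1 := X.basicOpen_le _
  letI : Algebra Γ(X, U.1) Γ(X, W) := (X.presheaf.map (homOfLE hle).op).hom.toAlgebra
  letI : Algebra Γ(S, V) Γ(X, W) := (f.appLE V W (hle.trans e)).hom.toAlgebra
  haveI : IsScalarTower Γ(S, V) Γ(X, U.1) Γ(X, W) := IsScalarTower.of_algebraMap_eq' (by
    show (f.appLE V W _).hom = (f.appLE V U.1 e ≫ X.presheaf.map (homOfLE hle).op).hom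
    rw [Scheme.Hom.appLE_map])
  haveI : IsLocalization.Away (b * t) Γ(X, W) := U.2.isLocalization_basicOpen (b * t)
  have hut : IsUnit (algebraMap Γ(X, U.1) Γ(X, W) t) :=
    isUnit_of_mul_isUnit_right (x := algebraMap Γ(X, U.1) Γ(X, W) b) (by
      rw [← map_mul]; exact IsLocalization.Away.algebraMap_isUnit (b * t))
  let π : B₁ →+* Γ(X, W) := IsLocalization.Away.lift t hut
  letI : Algebra B₁ Γ(X, W) := π.toAlgebra
  haveI : IsScalarTower Γ(X, U.1) B₁ Γ(X, W) :=
    IsScalarTower.of_algebraMap_eq fun x => (IsLocalization.Away.lift_eq t hut x).symm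
  haveI : IsScalarTower Γ(S, V) B₁ Γ(X, W) := IsScalarTower.of_algebraMap_eq fun a => by
    rw [IsScalarTower.algebraMap_apply Γ(S, V) Γ(X, U.1) B₁, ← IsScalarTower.algebraMap_apply Γ(X, U.1) B₁ Γ(X, W),
      ← IsScalarTower.algebraMap_apply Γ(S, V) Γ(X, U.1) Γ(X, W)]
  haveI : IsLocalization.Away b₁ Γ(X, W) := by
    haveI : IsLocalization.Away (algebraMap Γ(X, U.1) B₁ b) Γ(X, W) := by
      let P := Localization.Away (algebraMap Γ(X, U.1) B₁ b)
      let eP : P ≃ₐ[Γ(X, U.1)] Γ(X, W) := IsLocalization.algEquiv (Submonoid.powers (b * t)) P Γ(X, W)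
      have he : ∀ x : B₁, eP (algebraMap B₁ P x) = algebraMap B₁ Γ(X, W) x := fun x => by
        refine RingHom.congr_fun (IsLocalization.ringHom_ext (Submonoid.powers t)
          (j := eP.toRingEquiv.toRingHom.comp (algebraMap B₁ P)) (k := algebraMap B₁ Γ(X, W))
          (RingHom.ext fun y => ?_)) x
        show eP (algebraMap B₁ P (algebraMap Γ(X, U.1) B₁ y)) = algebraMap B₁ Γ(X, W) (algebraMap Γ(X, U.1) B₁ y)
        rw [← IsScalarTower.algebraMap_apply Γ(X, U.1) B₁ P, eP.commutes,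
          ← IsScalarTower.algebraMap_apply Γ(X, U.1) B₁ Γ(X, W)]
      exact IsLocalization.isLocalization_of_algEquiv _
        ({ eP.toRingEquiv with commutes' := he } : P ≃ₐ[B₁] Γ(X, W))
    refine IsLocalization.Away.of_associated (r := algebraMap Γ(X, U.1) B₁ b) ?_
    rw [← hbc]
    exact (associated_mul_unit_right b₁ _ hu).symm
  have hreg₁ := hL Γ(X, W)
  haveI : Module.Flat Γ(S, V) Γ(X, W) :=
    have := IsLocalization.flat Γ(X, W) (Submonoid.powers b₁)
    Module.Flat.trans Γ(S, V) B₁ Γ(X, W)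
  refine ⟨⟨W, hzW, flat_ι_comp f ⟨W, U.2.basicOpen _⟩ ⟨V, hV⟩ (hle.trans e)
    (RingHom.flat_algebraMap_iff.2 ‹Module.Flat Γ(S, V) Γ(X, W)›)⟩, ?_⟩
  have H : IsPullback (𝟙 Z) i i (𝟙 X) := IsPullback.of_horiz_isIso ⟨by simp⟩
  obtain ⟨hcl', hker'⟩ := H29Slice.restrict_baseChange H U.2 hcl (U.2.basicOpen (b * t)) (e := hle)
  refine ⟨⟨W, U.2.basicOpen _⟩, ⟨V, hV⟩, hle.trans e, hzW, hcl',
    rs.map (X.presheaf.map (homOfLE hle).op).hom, ?_, ?_⟩
  · rw [List.ofFn_get, List.map_map] at hreg₁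
    show RegImm.IsTransRegularSeq Γ(S, V) Γ(X, W) (rs.map (algebraMap Γ(X, U.1) Γ(X, W)))
    rw [IsScalarTower.algebraMap_eq Γ(X, U.1) B₁ Γ(X, W)]
    exact hreg₁
  · rw [hker', hker, Ideal.map_ofList]
    simp only [Scheme.Hom.appLE, Scheme.Hom.id_app]
    rfl

end Groth.Agent.H11RelH1
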